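import Cfsg.Agent.H690.LieRow
import Cfsg.Agent.H690.LTwo
import Cfsg.Agent.H419.Count_m3
import Cfsg.Agent.H163.Steinberg
import Cfsg.Agent.S0348
import Cfsg.Agent.S0494
import Cfsg.Agent.S0493
import Cfsg.Agent.CTwoTab.Exc
import Cfsg.Agent.H331.SCExc
import Mathlib
import Cfsg.Agent.H713.Invol
import Cfsg.Agent.ThreePrime.SzRel
import Cfsg.Agent.H70.SzOut
import Cfsg.Agent.H183.OutAbs
import Cfsg.Agent.FastGrp
import Cfsg.Agent.Prune
set_option linter.all false

-- part: H690/LieGood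
section
set_option linter.all false
open scoped Cfsg.Agent.FastGrp

/-!
# Simple groups of Lie type: for every prime `p` there is a `VZ` element which is not a `p`-element
-/

set_option autoImplicit false

namespace Cfsg.Agent.H690.LieGood

open Cfsg Cfsg.Agent.FixBN Cfsg.Agent.H713 Subgroup

/-- For every prime `p` there is a `VZ` element which is not a `p`-element. -/
def Good (K : Type*) [Group K] : Prop := ∀ p : ℕ, p.Prime → ∃ x : K, VZ K x ∧ ∀ m : ℕ, orderOf x ≠ p ^ m

theorem Good.congr {K L : Type*} [Group K] [Group L] (e : K ≃* L) (h : Good K) : Good L := by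
  intro p hp
  obtain ⟨x, hx, h1⟩ := h p hp
  exact ⟨e x, hx.mulEquiv e, fun m => by rw [MulEquiv.orderOf_eq]; exact h1 m⟩

theorem good_of_mixed {K : Type*} [Group K] {x : K} (hx : VZ K x) {a b : ℕ} (ha : a.Prime) (hb : b.Prime)
    (hab : a ≠ b) (h1 : a ∣ orderOf x) (h2 : b ∣ orderOf x) : Good K := by
  intro p hp
  refine ⟨x, hx, fun m h => hab ?_⟩
  rw [h] at h1 h2
  have h3 := (Nat.prime_dvd_prime_iff_eq ha hp).1 (ha.dvd_of_dvd_pow h1)
  have h4 := (Nat.prime_dvd_prime_iff_eq hb hp).1 (hb.dvd_of_dvd_pow h2)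
  rw [h3, h4]

theorem good_of_two {K : Type*} [Group K] {x y : K} (hx : VZ K x) (hy : VZ K y) {a b : ℕ} (ha : a.Prime)
    (hb : b.Prime) (hab : a ≠ b) (h1 : orderOf x = a) (h2 : orderOf y = b) : Good K := by
  intro p hp
  by_cases hpa : p = a
  · refine ⟨y, hy, fun m h => hab ?_⟩
    rw [h2] at h
    have h3 : b ∣ p ^ m := by rw [← h]
    rw [← hpa]
    exact ((Nat.prime_dvd_prime_iff_eq hb hp).1 (hb.dvd_of_dvd_pow h3)).symm
  · refine ⟨x, hx, fun m h => hpa ?_⟩
    rw [h1] at h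
    have h3 : a ∣ p ^ m := by rw [← h]
    exact ((Nat.prime_dvd_prime_iff_eq ha hp).1 (ha.dvd_of_dvd_pow h3)).symm

/-- The Steinberg character. -/
theorem vz_of_hasSplit {K : Type*} [Group K] [Finite K] {p : ℕ} [Fact p.Prime] (h : HasSplit p K) {x : K}
    (hx : p ∣ orderOf x) : VZ K x := by
  obtain ⟨χ, hχ, h1⟩ := Cfsg.Agent.H163.Steinberg.exists_irr_of_hasSplit h
  have P : Sylow p K := default
  exact Reduce.vz_of_degree hχ (h1 P).1 P dvd_rfl hx

theorem dvd_card_of_hasSplit {K : Type*} [Group K] [Finite K] {p : ℕ} [hp : Fact p.Prime] (h : HasSplit p K) :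
    p ∣ Nat.card K := by
  obtain ⟨P, U, ⟨s, hs⟩, h⟩ := h
  obtain ⟨V, hV⟩ := h.node s hs
  obtain ⟨u, hu, huV⟩ := hV.ne
  obtain ⟨k, hk⟩ := h.isP ⟨u, hu⟩
  have h1 : u ^ p ^ k = 1 := by simpa using congrArg Subtype.val hk
  obtain ⟨j, hj, hj2⟩ := (Nat.dvd_prime_pow hp.1).1 (orderOf_dvd_of_pow_eq_one h1)
  have h3 : p ∣ orderOf u := by
    rw [hj2]
    apply dvd_pow_self
    rintro rfl
    rw [pow_zero, orderOf_eq_one_iff] at hj2
    exact huV (by rw [hj2]; exact one_mem _)
  exact h3.trans (orderOf_dvd_natCard u)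

/-- `PSL₂(F)`, `|F| ≥ 4`, `|F| ≠ 5`. -/
theorem good_psl_aux {F : Type} [Field F] [Fintype F] (h4 : 4 ≤ Fintype.card F) (h5 : Fintype.card F ≠ 5)
    [IsSimpleGroup (Matrix.ProjectiveSpecialLinearGroup (Fin 2) F)] :
    Good (Matrix.ProjectiveSpecialLinearGroup (Fin 2) F) := by
  obtain ⟨l, x, hl, hlq, hx, hvz⟩ := LTwo.exists_vz h4 h5
  obtain ⟨r, hr⟩ := CharP.exists F
  have hrp : r.Prime := CharP.char_is_prime F r
  have : Fact r.Prime := ⟨hrp⟩
  have hL : IsLieTypeChar r (Matrix.ProjectiveSpecialLinearGroup (Fin 2) F) :=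
    Or.inl ⟨F, _, _, hr, 2, le_refl _, fun _ => h4, ⟨MulEquiv.refl _⟩⟩
  have hs := LieRow.hasSplit hrp hL
  obtain ⟨y, hy⟩ := exists_prime_orderOf_dvd_card' r (dvd_card_of_hasSplit hs)
  refine good_of_two hvz (vz_of_hasSplit (p := r) hs (by rw [hy])) hl hrp ?_ hx hy
  rintro rfl
  apply hlq
  obtain ⟨n, -, hn⟩ := FiniteField.card F l
  rw [hn]
  exact dvd_pow_self l n.2.ne'

theorem good_psl {F : Type} [Field F] [Fintype F] {K : Type*} [Group K] [Finite K] [IsSimpleGroup K]
    (hna : ∃ a b : K, a * b ≠ b * a) (e : K ≃* Matrix.ProjectiveSpecialLinearGroup (Fin 2) F) : Good K := by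
  have hsF : IsSimpleGroup (Matrix.ProjectiveSpecialLinearGroup (Fin 2) F) := e.symm.isSimpleGroup
  have hcard : Nat.card K = Nat.card (Matrix.ProjectiveSpecialLinearGroup (Fin 2) F) := Nat.card_congr e.toEquiv
  have hq : 4 ≤ Fintype.card F := by
    by_contra hlt
    have h1 : 1 < Fintype.card F := Fintype.one_lt_card
    have h2 : Nat.card K = 6 ∨ Nat.card K = 12 := by
      rw [hcard]
      have h3 : Fintype.card F = 2 ∨ Fintype.card F = 3 := by omega
      rcases h3 with h3 | h3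
      · left
        have := Cfsg.Agent.ClassicalGeometry.PSL2Basic.card_PSL2_even F (by rw [h3]; decide)
        rw [this, h3]
        norm_num
      · right
        have := Cfsg.Agent.ClassicalGeometry.PSL2Basic.card_PSL2_odd F (by rw [h3]; decide)
        rw [h3] at this
        omega
    have h3 := Cfsg.Agent.S0493.result (G := K) (by
      intro hc
      obtain ⟨a, b, hab⟩ := hna
      exact hab (IsCyclic.isMulCommutative.is_comm.comm a b)) (by omega)
    omega
  by_cases h5 : Fintype.card F = 5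
  · have h60 : Nat.card K = 60 := by
      rw [hcard]
      have := Cfsg.Agent.ClassicalGeometry.PSL2Basic.card_PSL2_odd F (by rw [h5]; decide)
      rw [h5] at this
      omega
    obtain ⟨e1⟩ := Cfsg.Agent.S0494.result h60
    let E := GaloisField 2 2
    have : Fintype E := Fintype.ofFinite _
    have hE : Fintype.card E = 4 := by
      rw [← Nat.card_eq_fintype_card, GaloisField.card 2 2 (by norm_num)]
      norm_num
    have hsE : IsSimpleGroup (Matrix.ProjectiveSpecialLinearGroup (Fin 2) E) :=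
      Matrix.ProjectiveSpecialLinearGroup.rank_two_simple (by rw [Nat.card_eq_fintype_card, hE])
    have h60' : Nat.card (Matrix.ProjectiveSpecialLinearGroup (Fin 2) E) = 60 := by
      have := Cfsg.Agent.ClassicalGeometry.PSL2Basic.card_PSL2_even E (by rw [hE]; decide)
      rw [this, hE]
      norm_num
    obtain ⟨e2⟩ := Cfsg.Agent.S0494.result h60'
    exact (good_psl_aux (F := E) (by rw [hE]) (by rw [hE]; norm_num)).congr (e2.trans e1.symm)
  · exact (good_psl_aux hq h5).congr e.symm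

theorem suz_three (m : ℕ) :
    ¬ 3 ∣ (2 ^ (2 * m + 1)) ^ 2 * ((2 ^ (2 * m + 1)) ^ 2 + 1) * (2 ^ (2 * m + 1) - 1) := by
  have h : (2 ^ (2 * m + 1)) % 3 = 2 := by
    induction m with
    | zero => rfl
    | succ m ih =>
      have : 2 ^ (2 * (m + 1) + 1) = 2 ^ (2 * m + 1) * 4 := by ring
      rw [this]
      omega
  generalize 2 ^ (2 * m + 1) = a at h
  intro hd
  have h3 : Nat.Prime 3 := by norm_num
  rcases h3.dvd_mul.1 hd with h1 | h1
  · rcases h3.dvd_mul.1 h1 with h2 | h2
    · have := h3.dvd_of_dvd_pow h2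
      omega
    · have h4 : a ^ 2 % 3 = 1 := by rw [Nat.pow_mod, h]
      omega
  · omega

theorem suz_five (m : ℕ) :
    5 ∣ (2 ^ (2 * m + 1)) ^ 2 * ((2 ^ (2 * m + 1)) ^ 2 + 1) * (2 ^ (2 * m + 1) - 1) := by
  have h := Suz.mod_five m
  generalize 2 ^ (2 * m + 1) = a at h
  refine Dvd.dvd.mul_right (Dvd.dvd.mul_left ?_ _) _
  have h4 : (a ^ 2 + 1) % 5 = 0 := by
    rcases h with h | h <;> rw [Nat.add_mod, Nat.pow_mod, h]
  omega

/-- Characteristic two. -/
theorem good_two {K : Type*} [Group K] [Finite K] [IsSimpleGroup K] (hna : ∃ a b : K, a * b ≠ b * a)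
    (h : IsLieTypeChar 2 K) : Good K := by
  have h2 : Fact (Nat.Prime 2) := ⟨Nat.prime_two⟩
  have hs := LieRow.hasSplit Nat.prime_two h
  by_cases hcit : ∀ t : K, orderOf t = 2 → IsPGroup 2 (Subgroup.centralizer ({t} : Set K))
  · obtain ⟨t, ht⟩ := exists_prime_orderOf_dvd_card' 2 (dvd_card_of_hasSplit hs)
    have htv := vz_of_hasSplit (p := 2) hs (x := t) (by rw [ht])
    rcases Cfsg.Agent.S0348.result hna hcit with ⟨F, i1, i2, -, ⟨e⟩⟩ | ⟨F, i1, i2, hF, ⟨e⟩⟩ | h3
    · exact good_psl hna e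
    · have hp5 : Nat.Prime 5 := by norm_num
      have : Fact (Nat.Prime 5) := ⟨hp5⟩
      have h5 : 5 ∣ Nat.card K := by
        rw [Nat.card_congr e.toEquiv, Cfsg.Agent.CTwoTab.card_PSL_three F hF]
        norm_num
      obtain ⟨y, hy⟩ := exists_prime_orderOf_dvd_card' 5 h5
      have hyv : VZ K y := by
        have := (LThreeFour.vz_five hF (x := e y) (by rw [MulEquiv.orderOf_eq, hy])).mulEquiv e.symm
        rwa [MulEquiv.symm_apply_apply] at this
      exact good_of_two htv hyv Nat.prime_two hp5 (by norm_num) ht hy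
    · have h3' : ¬ 3 ∣ Nat.card K := by
        obtain ⟨-, m, -, hm⟩ := h3
        rw [hm]
        exact suz_three m
      have hsz := Cfsg.Agent.ThreePrime.Main.isoSuzuki hna h3'
      have hp5 : Nat.Prime 5 := by norm_num
      have : Fact (Nat.Prime 5) := ⟨hp5⟩
      have h5 : 5 ∣ Nat.card K := by
        obtain ⟨-, m, -, hm⟩ := h3
        rw [hm]
        exact suz_five m
      obtain ⟨y, hy⟩ := exists_prime_orderOf_dvd_card' 5 h5
      exact good_of_two htv (Suz.isoSuzuki hsz (by rw [hy])) Nat.prime_two hp5 (by norm_num) ht hy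
  · push Not at hcit
    obtain ⟨t, ht, hC⟩ := hcit
    -- an element of odd prime order in the centralizer
    have h3 : ∃ l : ℕ, l.Prime ∧ l ≠ 2 ∧ l ∣ Nat.card (Subgroup.centralizer ({t} : Set K)) := by
      by_contra hcon
      push Not at hcon
      apply hC
      have h4 := Nat.eq_prime_pow_of_unique_prime_dvd
        (n := Nat.card (Subgroup.centralizer ({t} : Set K))) (p := 2) Nat.card_pos.ne' (by
          intro d hd hdd
          by_contra hne
          exact hcon d hd hne hdd)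
      exact IsPGroup.of_card h4
    obtain ⟨l, hl, hl2, hld⟩ := h3
    have : Fact l.Prime := ⟨hl⟩
    obtain ⟨y, hy⟩ := exists_prime_orderOf_dvd_card' l hld
    have hy' : orderOf (y : K) = l := by rw [Subgroup.orderOf_coe]; exact hy
    have hc : Commute t (y : K) := (Subgroup.mem_centralizer_singleton_iff.1 y.2).symm
    have hord : orderOf (t * (y : K)) = 2 * l := by
      rw [hc.orderOf_mul_eq_mul_orderOf_of_coprime, ht, hy']
      rw [ht, hy']
      exact (Nat.coprime_primes Nat.prime_two hl).2 (Ne.symm hl2)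
    refine good_of_mixed (vz_of_hasSplit (p := 2) hs (x := t * (y : K)) ?_) Nat.prime_two hl (Ne.symm hl2) ?_ ?_
    · rw [hord]; exact Dvd.intro _ rfl
    · rw [hord]; exact Dvd.intro _ rfl
    · rw [hord]; exact Dvd.intro_left _ rfl

/-- **All simple groups of Lie type.** -/
theorem good_lie {p : ℕ} (hp : p.Prime) {K : Type*} [Group K] [Finite K] [IsSimpleGroup K]
    (hna : ∃ a b : K, a * b ≠ b * a) (h : IsLieTypeChar p K) : Good K := by
  by_cases hp2 : p = 2
  · subst hp2
    exact good_two hna h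
  · rcases LieRow.lie_odd hp hp2 h with ⟨r, hr, hr2, hs, g, hg⟩ | ⟨F, i1, i2, ⟨e⟩⟩ | h2
    · have : Fact r.Prime := ⟨hr⟩
      refine good_of_mixed (vz_of_hasSplit (p := r) hs (x := g) ?_) Nat.prime_two hr (Ne.symm hr2) ?_ ?_
      · rw [hg]; exact Dvd.intro_left _ rfl
      · rw [hg]; exact Dvd.intro _ rfl
      · rw [hg]; exact Dvd.intro_left _ rfl
    · exact good_psl hna e
    · exact good_two hna h2

end Cfsg.Agent.H690.LieGood
end

-- part: H723/SzRow
section
set_option linter.all false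
open scoped Cfsg.Agent.FastGrp

/-!
# The Suzuki groups (helper723)

* `not_real` : the element `u 1 0` of order four is not conjugate to its inverse.
* `row_sz` : the row of S4943.
-/

set_option autoImplicit false

namespace Cfsg.Agent.H723.SzRow

open Cfsg Cfsg.Agent.H713 Cfsg.Agent.ThreePrime.SzRel

universe u v w

section rel

variable {J : Type v} [Group J] {F : Type*} [Field F] (R : Cfsg.Agent.ThreePrime.SzRel.Rel J F)

theorem orderOf_x : orderOf (R.u 1 0) = 4 := by
  have h4 : (4 : ℕ) = 2 ^ (1 + 1) := by norm_num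
  rw [h4]
  have : Fact (Nat.Prime 2) := ⟨Nat.prime_two⟩
  apply orderOf_eq_prime_pow
  · rw [pow_one, pow_two, R.u_sq_iff]
    exact one_ne_zero
  · exact R.pow_four (R.u_mem _ _)

theorem x_inv : (R.u 1 0)⁻¹ = R.u 1 1 := by
  rw [R.u_inv, map_one, mul_one, zero_add]

theorem not_real : ¬ IsConj (R.u 1 0) (R.u 1 0)⁻¹ := by
  intro h
  rw [x_inv] at h
  obtain ⟨g, hg⟩ := isConj_iff.1 h
  have hx1 : R.u 1 0 ≠ 1 := by
    intro h1
    rw [← R.u_zero] at h1
    exact one_ne_zero (R.u_inj h1).1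
  obtain ⟨a, b, k, rfl⟩ := R.exists_ud (R.u_mem 1 0) hx1 (by rw [hg]; exact R.u_mem _ _)
  have h1 : (R.u a b * R.d k) * R.u 1 0 * (R.u a b * R.d k)⁻¹ =
      R.u a b * (R.d k * R.u 1 0 * (R.d k)⁻¹) * (R.u a b)⁻¹ := by group
  rw [h1, R.conj_d, R.conj_u] at hg
  obtain ⟨h2, h3⟩ := R.u_inj hg
  rw [h2, map_one, zero_mul, one_mul, zero_add, mul_one] at h3
  have h4 := congrArg R.θ h3
  rw [map_add, R.sq, map_one] at h4
  have h5 : a ^ 2 - a = 0 := by linear_combination h4 - h3
  have h6 : a * (a - 1) = 0 := by linear_combination h5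
  have h7 := R.two
  rcases mul_eq_zero.1 h6 with h8 | h8
  · rw [h8, map_zero, zero_add] at h3
    exact one_ne_zero h3.symm
  · rw [sub_eq_zero] at h8
    rw [h8, map_one] at h3
    have h9 : (1 : F) = 0 := by linear_combination h7 - h3
    exact one_ne_zero h9

end rel

/-- If `g` conjugates `x` to its inverse, so does an odd power of `g` of `2`-power order; it lies in
each normal subgroup of odd index. -/
theorem exists_inverting {G : Type*} [Group G] [Finite G] (N : Subgroup G) [N.Normal] (hN : Odd N.index)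
    {x : G} (h : IsConj x x⁻¹) : ∃ g ∈ N, g * x * g⁻¹ = x⁻¹ := by
  obtain ⟨g, hg⟩ := isConj_iff.1 h
  obtain ⟨k, hk⟩ := hN
  refine ⟨g ^ N.index, N.pow_index_mem g, ?_⟩
  have h0 : MulAut.conj g x = x⁻¹ := hg
  have h1 : (MulAut.conj g ^ 2) x = x := by
    rw [pow_two, MulAut.mul_apply, h0, map_inv, h0, inv_inv]
  have h2 : ∀ n : ℕ, ((MulAut.conj g ^ 2) ^ n) x = x := by
    intro n
    induction n with
    | zero => rfl
    | succ n ih => rw [pow_succ, MulAut.mul_apply, h1, ih]
  have h3 : MulAut.conj (g ^ N.index) x = x⁻¹ := by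
    rw [map_pow, hk, pow_add, pow_mul, pow_one, MulAut.mul_apply, h0, map_inv, h2]
  exact h3

/-- **The row of the Suzuki groups.** -/
theorem row_sz {K : Type v} [Group K] [Finite K] [IsSimpleGroup K] (hZ : Subgroup.center K = ⊥)
    (h : Lie.IsoSuzuki K) : Row.{u, v} K := by
  have hp2 : Fact (Nat.Prime 2) := ⟨Nat.prime_two⟩
  have hvz : ∀ x : K, 2 ∣ orderOf x → VZ K x := fun x hx =>
    H690.LieGood.vz_of_hasSplit (H690.LieRow.hasSplit Nat.prime_two
      (Or.inr (Or.inr (Or.inr (Or.inr (Or.inr (Or.inr (Or.inr (Or.inr (Or.inl ⟨rfl, h⟩)))))))))) hx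
  obtain ⟨F, i1, i2, m, hm, hF, ⟨e⟩⟩ := h
  let R : Cfsg.Agent.ThreePrime.SzRel.Rel K F := (ofGood (Cfsg.Agent.LieRecognition.SzMatrix.good hF)).map e.symm
  refine ⟨⟨R.u 1 0, by rw [orderOf_x]; norm_num, hvz _ (by rw [orderOf_x]; norm_num)⟩, ?_⟩
  intro G _ _ f hf hn hc hst
  have h1 := index_mul_card_dvd f hf hn hc
  have h2 : Nat.card (Cfsg.Out ↥(Cfsg.Lie.Sz F (2 ^ (m + 1)))) = 2 * m + 1 := Cfsg.Agent.H70.SzOut.card_out hm hF
  have h3 : Nat.card (MulAut K) = Nat.card (MulAut ↥(Cfsg.Lie.Sz F (2 ^ (m + 1)))) :=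
    Nat.card_congr (MulAut.congr e).toEquiv
  have hZ' : Subgroup.center ↥(Cfsg.Lie.Sz F (2 ^ (m + 1))) = ⊥ := by
    rw [Subgroup.eq_bot_iff_forall] at hZ ⊢
    intro z hz
    have h4 : e.symm z ∈ Subgroup.center K := by
      rw [Subgroup.mem_center_iff] at hz ⊢
      intro g
      apply e.injective
      rw [map_mul, map_mul, e.apply_symm_apply]
      exact hz _
    have h5 := hZ _ h4
    rwa [map_eq_one_iff _ e.symm.injective] at h5
  rw [h3, ← Cfsg.Agent.H183.OutAbs.card_out_mul hZ', h2,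
    ← Nat.card_congr e.toEquiv] at h1
  have h4 : f.range.index ∣ 2 * m + 1 := Nat.dvd_of_mul_dvd_mul_right Nat.card_pos h1
  have hodd : Odd f.range.index := by
    obtain ⟨c, hc⟩ := h4
    have h5 : Odd (f.range.index * c) := by rw [← hc]; exact ⟨m, rfl⟩
    exact (Nat.odd_mul.1 h5).1
  have h6 : IsConj (f (R.u 1 0)) (f (R.u 1 0))⁻¹ := by
    rw [← map_inv]
    refine hst.isConj (d := 4) (van_of_vz f hf hn (hvz _ ?_)) (van_of_vz f hf hn (hvz _ ?_))
      (by norm_num) ?_ ?_ (orderOf_pos _)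
    · rw [orderOf_x]; norm_num
    · rw [orderOf_inv, orderOf_x]; norm_num
    · rw [orderOf_injective f hf, orderOf_x]
    · rw [orderOf_injective f hf, orderOf_inv, orderOf_x]
  obtain ⟨_, ⟨s, rfl⟩, hs⟩ := exists_inverting f.range hodd h6
  refine not_real R (isConj_iff.2 ⟨s, hf ?_⟩)
  rw [map_mul, map_mul, map_inv, hs, map_inv]

end Cfsg.Agent.H723.SzRow
end
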